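import Cfsg.Agent.J4Rep94.M276.Check0
import Cfsg.Agent.J4Rep94.C1.Cert
import Cfsg.Agent.J4Rep94.C11.Cert
import Cfsg.Agent.J4Rep94.C13.Cert
import Cfsg.Agent.J4Rep94.C14.Cert
import Cfsg.Agent.J4Rep94.C15.Cert
import Cfsg.Agent.J4Rep94.C16.Cert
import Cfsg.Agent.J4Rep94.C18.Cert
import Cfsg.Agent.J4Rep94.C2.Cert
import Cfsg.Agent.J4Rep94.C20.Cert
import Cfsg.Agent.J4Rep94.C23.Cert
import Cfsg.Agent.J4Rep94.C3.Cert
import Cfsg.Agent.J4Rep94.C4.Cert
import Cfsg.Agent.J4Rep94.C7.Cert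
import Cfsg.Agent.J4Rep94.C8.Cert
import Cfsg.Agent.J4Rep94.C9.Cert
import Cfsg.Agent.J4Rep94.S0.Cert

/-!
# Certificate data
-/

set_option autoImplicit false
set_option maxRecDepth 100000

namespace Cfsg.Agent.J4Rep94.M276

open Cfsg.Agent.CosetEnum

theorem dok0 : allRange sys.checkDef 0 432 = true := by decide +kernel

def fchunks : List (ℕ × ℕ) := [(128, fv0), (48, fv1)]

theorem defsOK : sys.DefsOK 0 [432] := ⟨dok0, trivial⟩

theorem factsOK : sys.FactsOK 432 fchunks := ⟨fok0, fok1, trivial⟩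

theorem rules_ok : sys.rules.all (fun R => R.check sys rels subs) = true := by decide +kernel

theorem rels_one : ∀ W ∈ rels, evalWord val7 W = 1 :=
  List.forall_mem_append.2 ⟨val7_base, List.forall_mem_cons.2 ⟨C1.result_word, List.forall_mem_cons.2 ⟨C2.result_word, List.forall_mem_cons.2 ⟨C3.result_word, List.forall_mem_cons.2 ⟨C4.result_word, List.forall_mem_cons.2 ⟨C7.result_word, List.forall_mem_cons.2 ⟨C8.result_word, List.forall_mem_cons.2 ⟨C9.result_word, List.forall_mem_cons.2 ⟨C11.result_word, List.forall_mem_cons.2 ⟨C13.result_word, List.forall_mem_cons.2 ⟨C14.result_word, List.forall_mem_cons.2 ⟨C15.result_word, List.forall_mem_cons.2 ⟨C16.result_word, List.forall_mem_cons.2 ⟨C18.result_word, List.forall_mem_cons.2 ⟨C20.result_word, List.forall_mem_cons.2 ⟨C23.result_word, List.forall_mem_cons.2 ⟨S0.result_word, List.forall_mem_nil _⟩⟩⟩⟩⟩⟩⟩⟩⟩⟩⟩⟩⟩⟩⟩⟩⟩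

def mchunks : List (ℕ × ℕ) := [(24, mv0), (24, mv1), (24, mv2), (24, mv3), (24, mv4), (24, mv5), (24, mv6), (24, mv7), (24, mv8), (24, mv9), (24, mv10), (12, mv11)]

theorem mainOK : MainOK sys 608 reps 276 gens 0 mchunks := ⟨mok0, mok1, mok2, mok3, mok4, mok5, mok6, mok7, mok8, mok9, mok10, mok11, trivial⟩

theorem result_index : (wspan val7 subs).relIndex (wspan val7 gens) ≠ 0 ∧
    (wspan val7 subs).relIndex (wspan val7 gens) ≤ 276 :=
  relIndex_le_of_cert (val7_letters (S := sys) rfl (by decide +kernel)) rels_one subs rules_ok [432] fchunks mchunks defsOK (by decide)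
    factsOK (hfs := (by decide +kernel : 432 + (fchunks.map Prod.fst).sum = 608)) gens mainOK (by decide +kernel) (by decide) (by decide +kernel)

end Cfsg.Agent.J4Rep94.M276
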